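import Cfsg.Agent.Lib.Helper12.TC.Suz22880.Tab

/-! relator checks for Suz22880, part 0 (generated, helper12) -/

set_option autoImplicit false
set_option maxRecDepth 100000

namespace Cfsg.Agent.Lib.Helper12.TC.Suz22880

open Cfsg.Agent.Lib.Helper12.TC

theorem hperm1 : Fn.permOneK TT 1 cN = true := by decide +kernel

theorem hperm3 : Fn.permOneK TT 3 cN = true := by decide +kernel

theorem hm2 : Fn.marksK TT cN [([1, 2], 3)] = true := by decide +kernel

theorem hm8 : Fn.marksK TT cN [([2, 4], 2)] = true := by decide +kernel

theorem hm14 : Fn.marksK TT cN [([4, 5], 2)] = true := by decide +kernel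

theorem hm20 : Fn.marksK TT cN [([5, 6], 4)] = true := by decide +kernel

theorem hm22 : Fn.marksK TT cN [([0, 6, 5, 6, 5], 1)] = true := by decide +kernel

end Cfsg.Agent.Lib.Helper12.TC.Suz22880
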